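import Mathlib
set_option linter.all false

/-!
# Lang's theorem for `GL_n` over an algebraically closed field

Elementary proof through semilinear maps: a bijective `q`-semilinear map of a finite dimensional
space has a basis of fixed vectors.
-/

set_option autoImplicit false

namespace Cfsg.Agent.H192

open Polynomial Module

section Poly

variable {K : Type*} [Field K]

/-- the polynomials of the recursion `x₀ = a₀ t^q`, `x_{i+1} = x_i^q + a_{i+1} t^q`. -/
noncomputable def langPoly (q : ℕ) (a : ℕ → K) : ℕ → K[X]
  | 0 => C (a 0) * X ^ q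
  | (n + 1) => langPoly q a n ^ q + C (a (n + 1)) * X ^ q

theorem langPoly_dvd (q : ℕ) (hq : 2 ≤ q) (a : ℕ → K) (n : ℕ) : X ^ 2 ∣ langPoly q a n := by
  induction n with
  | zero => exact (pow_dvd_pow X hq).mul_left _
  | succ n ih =>
    refine dvd_add ?_ ((pow_dvd_pow X hq).mul_left _)
    exact ih.trans (dvd_pow_self _ (by omega))

theorem langPoly_natDegree (q : ℕ) (hq : 2 ≤ q) (a : ℕ → K) (n : ℕ) :
    (langPoly q a n = 0 ∧ ∀ i ≤ n, a i = 0) ∨ (q ≤ (langPoly q a n).natDegree) := by
  induction n with
  | zero =>
    by_cases h : a 0 = 0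
    · left
      refine ⟨by simp [langPoly, h], ?_⟩
      intro i hi
      have : i = 0 := by omega
      rw [this, h]
    · right
      rw [langPoly, natDegree_C_mul_X_pow _ _ h]
  | succ n ih =>
    rcases ih with ⟨h0, hi⟩ | h
    · by_cases h : a (n + 1) = 0
      · left
        refine ⟨?_, ?_⟩
        · rw [langPoly, h0, h, zero_pow (by omega)]; simp
        · intro i hi'
          rcases Nat.lt_or_ge i (n + 1) with h1 | h1
          · exact hi i (by omega)
          · have : i = n + 1 := by omega
            rw [this, h]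
      · right
        rw [langPoly, h0, zero_pow (by omega), zero_add, natDegree_C_mul_X_pow _ _ h]
    · right
      have h2 : (C (a (n + 1)) * X ^ q : K[X]).natDegree < (langPoly q a n ^ q).natDegree := by
        refine lt_of_le_of_lt (natDegree_C_mul_X_pow_le _ _) ?_
        rw [natDegree_pow]
        nlinarith
      rw [langPoly, natDegree_add_eq_left_of_natDegree_lt h2, natDegree_pow]
      nlinarith

theorem langPoly_exists_root [IsAlgClosed K] (q : ℕ) (hq : 2 ≤ q) (a : ℕ → K) (n : ℕ)
    (ha : ∃ i ≤ n, a i ≠ 0) : ∃ t : K, t ≠ 0 ∧ (langPoly q a n).eval t = t := by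
  obtain ⟨U, hU⟩ := langPoly_dvd q hq a n
  have hne : langPoly q a n ≠ 0 := by
    intro h
    rcases langPoly_natDegree q hq a n with ⟨_, h2⟩ | h2
    · obtain ⟨i, hi, hi'⟩ := ha
      exact hi' (h2 i hi)
    · rw [h, natDegree_zero] at h2
      omega
  have hU0 : U ≠ 0 := by
    rintro rfl
    exact hne (by rw [hU, mul_zero])
  have hdeg : (X * U - 1 : K[X]).degree ≠ 0 := by
    have h1 : (X * U : K[X]).degree = 1 + U.degree := by rw [degree_mul, degree_X]
    have h2 : (1 : K[X]).degree < (X * U : K[X]).degree := by
      rw [h1, degree_one]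
      have : (0 : WithBot ℕ) ≤ U.degree := by
        rw [degree_eq_natDegree hU0]; exact_mod_cast Nat.zero_le _
      rw [degree_eq_natDegree hU0]
      norm_cast
      omega
    rw [degree_sub_eq_left_of_degree_lt h2, h1]
    rw [degree_eq_natDegree hU0]
    norm_cast
    omega
  obtain ⟨t, ht⟩ := IsAlgClosed.exists_root _ hdeg
  have ht' : t * U.eval t = 1 := by
    have := ht
    simp only [IsRoot, eval_sub, eval_mul, eval_X, eval_one] at this
    linear_combination this
  refine ⟨t, ?_, ?_⟩
  · rintro rfl
    simp at ht'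
  · rw [hU]
    simp only [eval_mul, eval_pow, eval_X]
    linear_combination t * ht'

end Poly

section Semi

variable {K : Type*} [Field K] [IsAlgClosed K] (p : ℕ) [Fact p.Prime] [CharP K p]
  (f : ℕ) (hf : 1 ≤ f)
variable {V : Type*} [AddCommGroup V] [Module K V]

include hf in
theorem two_le_q : 2 ≤ p ^ f := by
  have hp : 2 ≤ p := (Fact.out : p.Prime).two_le
  calc 2 ≤ p := hp
    _ = p ^ 1 := (pow_one p).symm
    _ ≤ p ^ f := Nat.pow_le_pow_right (by omega) hf

include hf in
/-- a nonzero finite dimensional space with an injective semilinear map has a nonzero fixed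
vector. -/
theorem exists_fixed_vector [FiniteDimensional K V] [Nontrivial V]
    (φ : V →ₛₗ[iterateFrobenius K p f] V) (hφ : Function.Injective φ) :
    ∃ w : V, w ≠ 0 ∧ φ w = w := by
  classical
  have hq := two_le_q p f hf
  set q := p ^ f with hqdef
  obtain ⟨v, hv⟩ := exists_ne (0 : V)
  let u : ℕ → V := fun i => φ^[i] v
  have hu : ∀ i, φ (u i) = u (i + 1) := by
    intro i
    simp only [u, Function.iterate_succ_apply']
  have hune : ∀ i, u i ≠ 0 := by
    intro i
    induction i with
    | zero => exact hv
    | succ n ih =>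
      rw [← hu]
      intro h
      exact ih (hφ (by rw [h, map_zero]))
  -- minimal dependent length
  have hdep : ∃ m : ℕ, ¬ LinearIndependent K (fun i : Fin m => u i) := by
    refine ⟨finrank K V + 1, ?_⟩
    intro h
    have := h.fintype_card_le_finrank
    simp at this
  let m := Nat.find hdep
  have hm : ¬ LinearIndependent K (fun i : Fin m => u i) := Nat.find_spec hdep
  have hm' : ∀ k < m, LinearIndependent K (fun i : Fin k => u i) := by
    intro k hk
    have := Nat.find_min hdep hk
    exact not_not.1 this
  have hm2 : 2 ≤ m := by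
    by_contra hlt
    have : m = 0 ∨ m = 1 := by omega
    rcases this with h | h
    · apply hm
      rw [h]
      exact linearIndependent_empty_type
    · apply hm
      rw [h]
      rw [linearIndependent_unique_iff]
      exact hune _
  obtain ⟨k, hk⟩ : ∃ k, m = k + 2 := ⟨m - 2, by omega⟩
  have hind : LinearIndependent K (fun i : Fin (k + 1) => u i) := hm' _ (by omega)
  have hmem : u (k + 1) ∈ Submodule.span K (Set.range (fun i : Fin (k + 1) => u i)) := by
    by_contra hnot
    apply hm
    rw [hk]
    rw [linearIndependent_finSucc']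
    refine ⟨?_, ?_⟩
    · exact hind
    · exact hnot
  rw [Submodule.mem_span_range_iff_exists_fun] at hmem
  obtain ⟨a', ha'⟩ := hmem
  let a : ℕ → K := fun i => if h : i < k + 1 then a' ⟨i, h⟩ else 0
  have ha : ∑ i ∈ Finset.range (k + 1), a i • u i = u (k + 1) := by
    rw [← ha', Finset.sum_range]
    apply Finset.sum_congr rfl
    intro i _
    have hi := i.2
    simp only [a, dif_pos hi]
  have hane : ∃ i ≤ k, a i ≠ 0 := by
    by_contra hcon
    push Not at hcon
    apply hune (k + 1)
    rw [← ha]
    apply Finset.sum_eq_zero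
    intro i hi
    rw [Finset.mem_range] at hi
    rw [hcon i (by omega), zero_smul]
  obtain ⟨t, ht0, ht⟩ := langPoly_exists_root q hq a k hane
  let x : ℕ → K := fun i => (langPoly q a i).eval t
  have hx0 : x 0 = a 0 * t ^ q := by simp [x, langPoly]
  have hxs : ∀ i, x (i + 1) = x i ^ q + a (i + 1) * t ^ q := by
    intro i; simp [x, langPoly]
  have hxk : x k = t := ht
  have hφs : ∀ (c : K) (y : V), φ (c • y) = c ^ q • φ y := by
    intro c y
    rw [map_smulₛₗ, iterateFrobenius_def]
  refine ⟨∑ i ∈ Finset.range (k + 1), x i • u i, ?_, ?_⟩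
  · intro h0
    rw [Finset.sum_range] at h0
    have := (Fintype.linearIndependent_iff.1 hind) (fun i => x i) h0 ⟨k, by omega⟩
    simp only at this
    rw [hxk] at this
    exact ht0 this
  · rw [map_sum]
    simp only [hφs, hu]
    rw [Finset.sum_range_succ, hxk, ← ha, Finset.sum_range_succ' (fun i => a i • u i),
      Finset.sum_range_succ' (fun i => x i • u i), smul_add, Finset.smul_sum, ← add_assoc,
      ← Finset.sum_add_distrib, hx0]
    congr 1
    · apply Finset.sum_congr rfl
      intro i _
      rw [hxs, add_smul, smul_smul, mul_comm (a (i + 1))]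
    · rw [smul_smul, mul_comm]

include hf in
theorem exists_sub_pow (c : K) : ∃ y : K, y - y ^ (p ^ f) = c := by
  have hq := two_le_q p f hf
  have hdeg : (X - X ^ (p ^ f) - C c : K[X]).degree ≠ 0 := by
    have h1 : (X - C c : K[X]).degree < (X ^ (p ^ f) : K[X]).degree := by
      rw [degree_X_sub_C, degree_X_pow]
      exact_mod_cast hq
    have h2 : (X - X ^ (p ^ f) - C c : K[X]) = (X - C c) - X ^ (p ^ f) := by ring
    rw [h2, degree_sub_eq_right_of_degree_lt h1, degree_X_pow]
    norm_cast
    omega
  obtain ⟨y, hy⟩ := IsAlgClosed.exists_root _ hdeg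
  refine ⟨y, ?_⟩
  simp only [IsRoot, eval_sub, eval_X, eval_pow, eval_C] at hy
  linear_combination hy

include hf in
/-- the fixed vectors of an injective semilinear map span the space. -/
theorem span_fixed [FiniteDimensional K V]
    (φ : V →ₛₗ[iterateFrobenius K p f] V) (hφ : Function.Injective φ) :
    Submodule.span K {w : V | φ w = w} = ⊤ := by
  classical
  have hq := two_le_q p f hf
  set S := Submodule.span K {w : V | φ w = w} with hS
  have hφs : ∀ (c : K) (y : V), φ (c • y) = c ^ (p ^ f) • φ y := by
    intro c y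
    rw [map_smulₛₗ, iterateFrobenius_def]
  have hmap : ∀ s ∈ S, φ s ∈ S := by
    intro s hs
    induction hs using Submodule.closure_induction with
    | zero => rw [map_zero]; exact S.zero_mem
    | add x y _ _ hx hy => rw [map_add]; exact S.add_mem hx hy
    | smul_mem r x hx =>
      rw [hφs, show φ x = x from hx]
      exact S.smul_mem _ (Submodule.subset_span hx)
  have hsurj : ∀ s ∈ S, ∃ s' ∈ S, φ s' = s := by
    intro s hs
    induction hs using Submodule.closure_induction with
    | zero => exact ⟨0, S.zero_mem, map_zero _⟩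
    | add x y _ _ hx hy =>
      obtain ⟨a, ha, ha'⟩ := hx
      obtain ⟨b, hb, hb'⟩ := hy
      exact ⟨a + b, S.add_mem ha hb, by rw [map_add, ha', hb']⟩
    | smul_mem r x hx =>
      obtain ⟨c, hc⟩ := IsAlgClosed.exists_pow_nat_eq r (show 0 < p ^ f by omega)
      exact ⟨c • x, S.smul_mem _ (Submodule.subset_span hx), by
        rw [hφs, show φ x = x from hx, hc]⟩
  have hlang : ∀ s ∈ S, ∃ s' ∈ S, s' - φ s' = s := by
    intro s hs
    induction hs using Submodule.closure_induction with
    | zero => exact ⟨0, S.zero_mem, by rw [map_zero, sub_zero]⟩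
    | add x y _ _ hx hy =>
      obtain ⟨a, ha, ha'⟩ := hx
      obtain ⟨b, hb, hb'⟩ := hy
      refine ⟨a + b, S.add_mem ha hb, ?_⟩
      rw [map_add, ← ha', ← hb']; abel
    | smul_mem r x hx =>
      obtain ⟨c, hc⟩ := exists_sub_pow p f hf r
      refine ⟨c • x, S.smul_mem _ (Submodule.subset_span hx), ?_⟩
      rw [hφs, show φ x = x from hx, ← hc, sub_smul]
  by_contra hne
  have hnt : Nontrivial (V ⧸ S) := Submodule.Quotient.nontrivial_iff.2 hne
  let ψ : (V ⧸ S) →ₛₗ[iterateFrobenius K p f] (V ⧸ S) := S.mapQ S φ (fun s hs => hmap s hs)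
  have hψ : ∀ v : V, ψ (S.mkQ v) = S.mkQ (φ v) := fun v => rfl
  have hψi : Function.Injective ψ := by
    rw [injective_iff_map_eq_zero]
    intro y hy
    obtain ⟨v, rfl⟩ := S.mkQ_surjective y
    rw [hψ] at hy
    have h1 : φ v ∈ S := by
      rw [Submodule.mkQ_apply, Submodule.Quotient.mk_eq_zero] at hy
      exact hy
    obtain ⟨s, hs, hs'⟩ := hsurj _ h1
    have h2 : s = v := hφ hs'
    rw [Submodule.mkQ_apply, Submodule.Quotient.mk_eq_zero, ← h2]
    exact hs
  obtain ⟨y, hy0, hy⟩ := exists_fixed_vector p f hf ψ hψi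
  obtain ⟨w, rfl⟩ := S.mkQ_surjective y
  rw [hψ] at hy
  have h1 : φ w - w ∈ S := by
    rw [Submodule.mkQ_apply, Submodule.mkQ_apply, Submodule.Quotient.eq] at hy
    exact hy
  obtain ⟨s, hs, hs'⟩ := hlang _ h1
  have h2 : φ (w + s) = w + s := by
    rw [map_add]
    have : φ s = s - (φ w - w) := by rw [← hs']; abel
    rw [this]; abel
  have h3 : w + s ∈ S := Submodule.subset_span h2
  have h4 : w ∈ S := by
    have := S.sub_mem h3 hs
    simpa using this
  apply hy0
  rw [Submodule.mkQ_apply, Submodule.Quotient.mk_eq_zero]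
  exact h4

include hf in
/-- **Lang's theorem for `GL_n`.** -/
theorem lang_gl {n : ℕ} (g : GL (Fin n) K) :
    ∃ x : GL (Fin n) K, g = x * (Matrix.GeneralLinearGroup.map (iterateFrobenius K p f) x)⁻¹ := by
  classical
  -- the semilinear map v ↦ g · σ(v)
  let φ : (Fin n → K) →ₛₗ[iterateFrobenius K p f] (Fin n → K) :=
    { toFun := fun v => (g : Matrix (Fin n) (Fin n) K).mulVec (fun i => iterateFrobenius K p f (v i))
      map_add' := by
        intro v w
        rw [← Matrix.mulVec_add]
        congr 1
        ext i
        simp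
      map_smul' := by
        intro c v
        rw [← Matrix.mulVec_smul]
        congr 1
        ext i
        simp }
  have hφ : ∀ v, φ v = (g : Matrix (Fin n) (Fin n) K).mulVec
      (fun i => iterateFrobenius K p f (v i)) := fun v => rfl
  have hinj : Function.Injective φ := by
    rw [injective_iff_map_eq_zero]
    intro v hv
    rw [hφ] at hv
    have h1 : (fun i => iterateFrobenius K p f (v i)) = 0 := by
      have h2 := congrArg (fun z => ((g⁻¹ : GL (Fin n) K) : Matrix (Fin n) (Fin n) K).mulVec z) hv
      simp only [Matrix.mulVec_mulVec, Matrix.mulVec_zero] at h2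
      rw [← Units.val_mul, inv_mul_cancel, Units.val_one, Matrix.one_mulVec] at h2
      exact h2
    ext i
    have h3 := congrFun h1 i
    simp only [Pi.zero_apply] at h3
    exact (map_eq_zero_iff _ (iterateFrobenius K p f).injective).1 h3
  have hspan := span_fixed p f hf φ hinj
  obtain ⟨b, hb1, hb2, hb3⟩ := exists_linearIndependent K {w : Fin n → K | φ w = w}
  have hbs : ⊤ ≤ Submodule.span K (Set.range (Subtype.val : b → (Fin n → K))) := by
    rw [Subtype.range_coe, hb2, hspan]
  let B : Module.Basis b K (Fin n → K) := Module.Basis.mk hb3 hbs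
  have hfin : Fintype b := FiniteDimensional.fintypeBasisIndex B
  have hcard : Fintype.card b = n := by
    rw [← Module.finrank_eq_card_basis B]; simp
  let B' : Module.Basis (Fin n) K (Fin n → K) := B.reindex (Fintype.equivFinOfCardEq hcard)
  have hB' : ∀ j, φ (B' j) = B' j := by
    intro j
    have : B' j = ((Fintype.equivFinOfCardEq hcard).symm j : Fin n → K) := by
      simp [B', B]
    rw [this]
    exact hb1 (Subtype.property _)
  let x : Matrix (Fin n) (Fin n) K := fun i j => B' j i
  have hx : (g : Matrix (Fin n) (Fin n) K) * x.map (iterateFrobenius K p f) = x := by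
    ext i j
    have := congrFun (hB' j) i
    rw [hφ] at this
    rw [Matrix.mul_apply]
    exact this
  have hxu : IsUnit x := by
    have h1 : x = (Pi.basisFun K (Fin n)).toMatrix B' := by
      ext i j
      simp [x, Module.Basis.toMatrix_apply]
    rw [h1]
    have := (Pi.basisFun K (Fin n)).invertibleToMatrix B'
    exact isUnit_of_invertible _
  obtain ⟨X, hX⟩ := hxu
  refine ⟨X, ?_⟩
  rw [eq_mul_inv_iff_mul_eq]
  apply Units.ext
  rw [Units.val_mul, hX]
  rw [← hX] at hx
  rw [← hX]
  exact hx

end Semi

end Cfsg.Agent.H192
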