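import Cfsg.Agent.ChevStructure.FieldMap
import Cfsg.Agent.ChevalleyStructure.Elts
import Cfsg.Agent.S1026
import Cfsg.Agent.S1033
import Cfsg.Agent.S1034
import Cfsg.Agent.S1036
import Cfsg.Agent.S1100
import Cfsg.Prelude.Def_ChevAutomorphisms
set_option linter.all false

/-!
# Fixed points of entrywise field automorphisms on Chevalley groups

For `D` one of the seven tabulated Chevalley data, `σ` an endomorphism of the field `F`, and `g` in the
Chevalley group over `F` with `σ g = g` (entrywise), the Bruhat components of `g` (with representative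
of the Weyl group element in the group generated by the `n_r(1)`) are fixed by `σ`. If in addition
the Cartan matrix is unimodular (types G₂, F₄, E₈), `g` lies in the Chevalley group over the fixed
field.
-/

set_option autoImplicit false

namespace Cfsg.Agent.H192.FieldFix

open Cfsg.Lie Cfsg.Agent.ChevalleyStructure Cfsg.Agent.ChevalleyStructure.Elts
  Cfsg.Agent.ChevStructure.FieldMap Cfsg.Agent.ChevalleyStructure.BruhatSplit

open scoped Pointwise

universe u v

variable {F : Type u} {K : Type v} [Field F] [Field K] {D : ChevalleyDatum}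

/-- entrywise image of an invertible matrix under a ring homomorphism. -/
noncomputable def glMap (D : ChevalleyDatum) (f : F →+* K) : GL D.Idx F →* GL D.Idx K :=
  Units.map ((RingHom.mapMatrix f : Matrix D.Idx D.Idx F →+* Matrix D.Idx D.Idx K) :
    Matrix D.Idx D.Idx F →* Matrix D.Idx D.Idx K)

theorem glMap_coe (f : F →+* K) (g : GL D.Idx F) :
    ((glMap D f g : GL D.Idx K) : Matrix D.Idx D.Idx K) = (g : Matrix D.Idx D.Idx F).map f := rfl

theorem glMap_injective (D : ChevalleyDatum) (f : F →+* K) : Function.Injective (glMap D f) := by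
  intro g h hgh
  apply Units.ext
  have := congrArg (fun z : GL D.Idx K => (z : Matrix D.Idx D.Idx K)) hgh
  simp only [glMap_coe] at this
  exact Matrix.map_injective f.injective this

theorem glMap_xG (hD : InList D) (f : F →+* K) (r : ℕ) (t : F) :
    glMap D f (xG hD r t) = xG hD r (f t) := by
  apply Units.ext
  rw [glMap_coe, coe_xG, coe_xG, x_map]

theorem glMap_wordG (hD : InList D) (f : F →+* K) (w : List (ℕ × F)) :
    glMap D f (wordG hD w) = wordG hD (w.map fun p => (p.1, f p.2)) := by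
  apply Units.ext
  rw [glMap_coe, coe_wordG, coe_wordG, wordMat_map]

theorem glMap_nG (hD : InList D) (f : F →+* K) (r : ℕ) (t : F) :
    glMap D f (nG hD r t) = nG hD r (f t) := by
  rw [nG_def, nG_def, map_mul, map_mul, glMap_xG, glMap_xG, map_neg, map_inv₀]

theorem glMap_hG (hD : InList D) (f : F →+* K) (r : ℕ) (t : F) :
    glMap D f (hG hD r t) = hG hD r (f t) := by
  rw [hG_def, hG_def, map_mul, glMap_nG, glMap_nG, map_neg, map_one]

theorem glMap_group (hD : InList D) (f : F →+* K) {g : GL D.Idx F} (hg : g ∈ D.group F) :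
    glMap D f g ∈ D.group K := by
  have : D.group F ≤ (D.group K).comap (glMap D f) :=
    (group_le_iff hD _).2 fun r _ t => by
      rw [Subgroup.mem_comap, glMap_xG]
      exact xG_mem_group hD r _
  exact this hg

theorem glMap_pos (hD : InList D) (f : F →+* K) {g : GL D.Idx F} (hg : g ∈ D.posUnipotent F) :
    glMap D f g ∈ D.posUnipotent K := by
  have : D.posUnipotent F ≤ (D.posUnipotent K).comap (glMap D f) :=
    (posUnipotent_le_iff hD _).2 fun r hr t => by
      rw [Subgroup.mem_comap, glMap_xG]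
      exact xG_mem_posUnipotent hD hr _
  exact this hg

theorem glMap_diag (hD : InList D) (f : F →+* K) {g : GL D.Idx F}
    (hg : g ∈ D.diagonalSubgroup F) : glMap D f g ∈ D.diagonalSubgroup K := by
  have : D.diagonalSubgroup F ≤ (D.diagonalSubgroup K).comap (glMap D f) :=
    (diagonal_le_iff hD _).2 fun r hr t ht => by
      rw [Subgroup.mem_comap, glMap_hG]
      exact hG_mem_diagonal hD hr ((map_ne_zero f).2 ht)
  exact this hg

theorem glMap_borel (hD : InList D) (f : F →+* K) {g : GL D.Idx F}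
    (hg : g ∈ D.borelSubgroup F) : glMap D f g ∈ D.borelSubgroup K := by
  have : D.borelSubgroup F ≤ (D.borelSubgroup K).comap (glMap D f) := by
    refine sup_le ?_ ?_
    · intro x hx
      exact (le_sup_left : D.posUnipotent K ≤ _) (glMap_pos hD f hx)
    · intro x hx
      exact (le_sup_right : D.diagonalSubgroup K ≤ _) (glMap_diag hD f hx)
  exact this hg

/-- the group generated by the `n_r(1)`. -/
def weyl (D : ChevalleyDatum) (F : Type u) [Field F] : Subgroup (GL D.Idx F) :=
  Subgroup.closure {g : GL D.Idx F | ∃ r : ℕ, r < D.nroots ∧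
    (g : Matrix D.Idx D.Idx F) = D.nMat F r 1}

theorem weyl_le_monomial : weyl D F ≤ D.monomialSubgroup F := le_sup_right

theorem glMap_weyl_fixed (hD : InList D) (σ : F →+* F) {n : GL D.Idx F} (hn : n ∈ weyl D F) :
    glMap D σ n = n := by
  have : weyl D F ≤ (glMap D σ).eqLocus (MonoidHom.id _) := by
    refine (Subgroup.closure_le _).2 ?_
    rintro g ⟨r, -, hg⟩
    rw [(eq_nG_iff hD g r 1).2 hg]
    show glMap D σ (nG hD r 1) = nG hD r 1
    rw [glMap_nG, map_one]
  exact this hn

theorem weyl_mem_range (hD : InList D) (ι : K →+* F) {n : GL D.Idx F} (hn : n ∈ weyl D F) :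
    ∃ n' ∈ D.group K, glMap D ι n' = n := by
  have : weyl D F ≤ (D.group K).map (glMap D ι) := by
    refine (Subgroup.closure_le _).2 ?_
    rintro g ⟨r, -, hg⟩
    rw [(eq_nG_iff hD g r 1).2 hg]
    exact ⟨nG hD r 1, nG_mem_group hD r 1, by rw [glMap_nG, map_one]⟩
  exact this hn

/-- `N = H W₀`. -/
theorem exists_diag_weyl (hD : InList D) {n : GL D.Idx F} (hn : n ∈ D.monomialSubgroup F) :
    ∃ h ∈ D.diagonalSubgroup F, ∃ w ∈ weyl D F, n = h * w := by
  have hle : weyl D F ≤ Subgroup.normalizer (D.diagonalSubgroup F : Set (GL D.Idx F)) := by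
    intro w hw
    have hwN : w ∈ D.monomialSubgroup F := weyl_le_monomial hw
    rw [Subgroup.mem_normalizer_iff]
    intro h
    constructor
    · intro hh
      exact Cfsg.Agent.S1100.conj_mem_diagonal hD hwN hh
    · intro hh
      have h1 := Cfsg.Agent.S1100.conj_mem_diagonal hD (Subgroup.inv_mem _ hwN) hh
      have h2 : w⁻¹ * (w * h * w⁻¹) * w⁻¹⁻¹ = h := by group
      rw [h2] at h1
      exact h1
  have h3 : ((D.diagonalSubgroup F ⊔ weyl D F : Subgroup (GL D.Idx F)) : Set (GL D.Idx F)) =
      (D.diagonalSubgroup F : Set (GL D.Idx F)) * (weyl D F : Set (GL D.Idx F)) :=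
    Subgroup.coe_mul_of_right_le_normalizer_left _ _ hle
  have h4 : n ∈ ((D.diagonalSubgroup F ⊔ weyl D F : Subgroup (GL D.Idx F)) : Set (GL D.Idx F)) := hn
  rw [h3] at h4
  obtain ⟨h, hh, w, hw, e⟩ := h4
  exact ⟨h, hh, w, hw, e.symm⟩

/-- Bruhat normal form with the Weyl group representative in `W₀`. -/
theorem exists_canonical (hD : InList D) {g : GL D.Idx F} (hg : g ∈ D.group F) :
    ∃ b ∈ D.borelSubgroup F, ∃ n ∈ weyl D F, ∃ u ∈ Um F D n, g = b * n * u := by
  obtain ⟨b, hb, n, hn, b', hb', rfl⟩ := Cfsg.Agent.S1100.exists_bruhat hD hg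
  obtain ⟨h, hh, w, hw, rfl⟩ := exists_diag_weyl hD hn
  obtain ⟨u', hu', h', hh', e⟩ := Cfsg.Agent.S1100.exists_mul_of_mem_borel hD (Subgroup.inv_mem _ hb')
  have e' : b' = h'⁻¹ * u'⁻¹ := by rw [← mul_inv_rev, ← e, inv_inv]
  have hwN := weyl_le_monomial hw
  obtain ⟨a, ha, c, hc, hac, hna⟩ := split hD hwN (Subgroup.inv_mem _ hu')
  have h1 := Cfsg.Agent.S1100.conj_mem_diagonal hD hwN (Subgroup.inv_mem _ hh')
  refine ⟨b * h * (w * h'⁻¹ * w⁻¹) * (w * a * w⁻¹), Subgroup.mul_mem _ (Subgroup.mul_mem _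
    (Subgroup.mul_mem _ hb ((le_sup_right : D.diagonalSubgroup F ≤ _) hh))
    ((le_sup_right : D.diagonalSubgroup F ≤ _) h1)) ((le_sup_left : D.posUnipotent F ≤ _) hna),
    w, hw, c, hc, ?_⟩
  rw [e', hac]
  group

theorem glMap_Um (hD : InList D) (σ : F →+* F) {n u : GL D.Idx F} (hu : u ∈ Um F D n) :
    glMap D σ u ∈ Um F D n := by
  have : Um F D n ≤ (Um F D n).comap (glMap D σ) := by
    refine (Subgroup.closure_le _).2 ?_
    rintro x ⟨r, t, hr, h, hx⟩
    rw [(eq_xG_iff hD x r t).2 hx]
    show glMap D σ (xG hD r t) ∈ Um F D n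
    rw [glMap_xG]
    exact Subgroup.subset_closure ⟨r, σ t, hr, h, coe_xG hD r _⟩
  exact this hu

/-- The Bruhat components of a fixed element are fixed. -/
theorem fixed_decomp (hD : InList D) (σ : F →+* F) {g : GL D.Idx F} (hg : g ∈ D.group F)
    (hσ : glMap D σ g = g) :
    ∃ u₁ ∈ D.posUnipotent F, ∃ h ∈ D.diagonalSubgroup F, ∃ n ∈ weyl D F, ∃ u₂ ∈ D.posUnipotent F,
      g = u₁ * h * n * u₂ ∧ glMap D σ u₁ = u₁ ∧ glMap D σ h = h ∧ glMap D σ n = n ∧
        glMap D σ u₂ = u₂ := by
  obtain ⟨b, hb, n, hn, u, hu, rfl⟩ := exists_canonical hD hg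
  have hnσ := glMap_weyl_fixed hD σ hn
  have h1 := (Cfsg.Agent.S1100.result (F := F) D hD).2 b (glMap D σ b) n n u (glMap D σ u) hb
    (glMap_borel hD σ hb) (weyl_le_monomial hn) (weyl_le_monomial hn) hu (glMap_Um hD σ hu)
    (by rw [map_mul, map_mul, hnσ] at hσ; exact hσ.symm)
  obtain ⟨h2, h3⟩ := h1.2 rfl
  obtain ⟨u₁, hu₁, h, hh, rfl⟩ := Cfsg.Agent.S1100.exists_mul_of_mem_borel hD hb
  have h4 : u₁⁻¹ * glMap D σ u₁ = h * (glMap D σ h)⁻¹ := by
    rw [map_mul] at h2
    calc u₁⁻¹ * glMap D σ u₁ = u₁⁻¹ * (glMap D σ u₁ * glMap D σ h) * (glMap D σ h)⁻¹ := by group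
      _ = u₁⁻¹ * (u₁ * h) * (glMap D σ h)⁻¹ := by rw [← h2]
      _ = _ := by group
  have h5 : u₁⁻¹ * glMap D σ u₁ ∈ D.posUnipotent F ⊓ D.diagonalSubgroup F :=
    ⟨Subgroup.mul_mem _ (Subgroup.inv_mem _ hu₁) (glMap_pos hD σ hu₁), by
      rw [h4]; exact Subgroup.mul_mem _ hh (Subgroup.inv_mem _ (glMap_diag hD σ hh))⟩
  rw [(Cfsg.Agent.S1036.result (F := F) D hD).2, Subgroup.mem_bot] at h5
  have h6 : glMap D σ u₁ = u₁ := (inv_mul_eq_one.1 h5).symm
  rw [h5] at h4
  have h7 : glMap D σ h = h := (mul_inv_eq_one.1 h4.symm).symm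
  exact ⟨u₁, hu₁, h, hh, n, hn, u, Um_le n hu, rfl, h6, h7, hnσ, h3.symm⟩

/-- fixed elements of `U` come from the fixed field. -/
theorem pos_mem_range (hD : InList D) (σ : F →+* F) (ι : K →+* F)
    (hι : ∀ t : F, σ t = t → ∃ s : K, ι s = t) {x : GL D.Idx F} (hx : x ∈ D.posUnipotent F)
    (hσ : glMap D σ x = x) : ∃ x' ∈ D.group K, glMap D ι x' = x := by
  obtain ⟨t, ⟨ht0, ht⟩, huniq⟩ := (Cfsg.Agent.S1026.result (F := F) D hD).1 x hx
  have h1 : (fun r => σ (t r)) = t := by
    apply huniq
    refine ⟨fun r hr => by simp only [ht0 r hr, map_zero], ?_⟩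
    have h2 : ((glMap D σ x : GL D.Idx F) : Matrix D.Idx D.Idx F) = (x : Matrix D.Idx D.Idx F) := by
      rw [hσ]
    rw [glMap_coe, ht, wordMat_map, List.map_map] at h2
    rw [ht, ← h2]
    rfl
  have h2 : ∀ r, ∃ s : K, ι s = t r := fun r => hι _ (congrFun h1 r)
  choose s hs using h2
  refine ⟨wordG hD (D.posRoots.map fun r => (r, s r)), wordG_mem_group hD _, ?_⟩
  rw [glMap_wordG]
  symm
  rw [eq_wordG_iff, ht, List.map_map]
  congr 1
  apply List.map_congr_left
  intro r _
  simp only [Function.comp_apply, hs]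

/-- unimodularity of the Cartan matrix. -/
def Unimod (D : ChevalleyDatum) : Prop :=
  ∃ C : ℕ → ℕ → ℤ, ∀ j < D.rank, ∀ i < D.rank,
    (((List.range D.rank).map fun k => C j k * D.cartan i (D.simple k)).sum = if i = j then 1 else 0)

theorem list_prod_zpow {ι : Type*} (l : List ι) (f : ι → F) (n : ℤ) :
    (l.map f).prod ^ n = (l.map fun i => f i ^ n).prod := by
  induction l with
  | nil => simp
  | cons a l ih => simp only [List.map_cons, List.prod_cons, mul_zpow, ih]

theorem list_zpow_sum {ι : Type*} (l : List ι) (f : ι → ℤ) {c : F} (hc : c ≠ 0) :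
    c ^ (l.map f).sum = (l.map fun i => c ^ f i).prod := by
  induction l with
  | nil => simp
  | cons a l ih => simp only [List.map_cons, List.prod_cons, List.sum_cons, zpow_add₀ hc, ih]

theorem list_prod_comm {ι κ : Type*} (l : List ι) (m : List κ) (f : ι → κ → F) :
    (l.map fun i => (m.map fun k => f i k).prod).prod =
      (m.map fun k => (l.map fun i => f i k).prod).prod := by
  induction l with
  | nil => simp
  | cons a l ih =>
    simp only [List.map_cons, List.prod_cons, ih]
    rw [← List.prod_map_mul]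

theorem list_prod_ite (n j : ℕ) (hj : j < n) (f : ℕ → F) :
    ((List.range n).map fun i => if i = j then f i else 1).prod = f j := by
  have h1 : ((List.range n).map fun i => if i = j then f i else 1).prod =
      ∏ i ∈ Finset.range n, if i = j then f i else 1 := by
    rw [Finset.prod_range, ← List.prod_ofFn]
    congr 1
    apply List.ext_getElem <;> simp
  rw [h1, Finset.prod_ite_eq' (Finset.range n) j f, if_pos (Finset.mem_range.2 hj)]

/-- the diagonal matrix of a product of the `h_{p_i}(c_i)`. -/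
theorem diag_word (hD : InList D) (c : ℕ → F) (hc : ∀ i < D.rank, c i ≠ 0) (l : List ℕ)
    (hl : ∀ i ∈ l, i < D.rank) :
    D.wordMat F (l.flatMap fun i => D.hWord (D.simple i) (c i)) =
      Matrix.diagonal (Sum.elim (fun _ => (1 : F))
        (fun s : Fin D.nroots => (l.map fun i => c i ^ (D.cartan i s)).prod)) := by
  induction l with
  | nil =>
    rw [List.flatMap_nil]
    have : (Matrix.diagonal (Sum.elim (fun _ => (1 : F))
        (fun s : Fin D.nroots => (([] : List ℕ).map fun i => c i ^ (D.cartan i s)).prod)) :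
        Matrix D.Idx D.Idx F) = 1 := by
      rw [← Matrix.diagonal_one]
      congr 1
      ext x
      rcases x with x | x <;> simp
    rw [this]
    rfl
  | cons i l ih =>
    have hi : i < D.rank := hl i List.mem_cons_self
    have h1 := Cfsg.Agent.S1033.result (F := F) D hD i hi (c i) (hc i hi)
    have h2 : D.wordMat F (D.hWord (D.simple i) (c i) ++ l.flatMap fun i => D.hWord (D.simple i) (c i)) =
        D.hMat F (D.simple i) (c i) * D.wordMat F (l.flatMap fun i => D.hWord (D.simple i) (c i)) := by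
      unfold Cfsg.Lie.ChevalleyDatum.hMat Cfsg.Lie.ChevalleyDatum.wordMat
      rw [List.map_append, List.prod_append]
    rw [List.flatMap_cons, h2, h1, ih (fun j hj => hl j (List.mem_cons_of_mem _ hj)),
      Matrix.diagonal_mul_diagonal]
    congr 1
    ext x
    rcases x with x | x <;> simp

theorem recover (c : ℕ → F) (hc : ∀ i < D.rank, c i ≠ 0) {C : ℕ → ℕ → ℤ}
    (hC : ∀ j < D.rank, ∀ i < D.rank,
    (((List.range D.rank).map fun k => C j k * D.cartan i (D.simple k)).sum = if i = j then 1 else 0))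
    {j : ℕ} (hj : j < D.rank) :
    ((List.range D.rank).map fun k =>
      ((List.range D.rank).map fun i => c i ^ (D.cartan i (D.simple k))).prod ^ (C j k)).prod = c j := by
  have h1 : ∀ k, ((List.range D.rank).map fun i => c i ^ (D.cartan i (D.simple k))).prod ^ (C j k) =
      ((List.range D.rank).map fun i => c i ^ (C j k * D.cartan i (D.simple k))).prod := by
    intro k
    rw [list_prod_zpow]
    congr 1
    apply List.map_congr_left
    intro i _
    rw [← zpow_mul, mul_comm]
  simp only [h1]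
  rw [list_prod_comm]
  have h2 : ∀ i ∈ List.range D.rank,
      ((List.range D.rank).map fun k => c i ^ (C j k * D.cartan i (D.simple k))).prod =
        if i = j then c i else 1 := by
    intro i hi
    rw [List.mem_range] at hi
    rw [← list_zpow_sum _ _ (hc i hi), hC j hj i hi]
    split_ifs <;> simp
  rw [List.map_congr_left h2, list_prod_ite _ _ hj]

/-- fixed elements of `H` come from the fixed field, when the Cartan matrix is unimodular. -/
theorem diag_mem_range (hD : InList D) (hU : Unimod D) (hs : ∀ k < D.rank, D.simple k < D.nroots)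
    (σ : F →+* F) (ι : K →+* F)
    (hι : ∀ t : F, σ t = t → ∃ s : K, ι s = t) {x : GL D.Idx F} (hx : x ∈ D.diagonalSubgroup F)
    (hσ : glMap D σ x = x) : ∃ x' ∈ D.group K, glMap D ι x' = x := by
  obtain ⟨c, hc, hxc⟩ := Cfsg.Agent.S1034.result D hD x hx
  obtain ⟨C, hC⟩ := hU
  have hd := diag_word hD c hc (List.range D.rank) (fun i hi => List.mem_range.1 hi)
  -- the entries are fixed
  have hfix : ∀ s : Fin D.nroots, σ (((List.range D.rank).map fun i => c i ^ (D.cartan i s)).prod) =
      ((List.range D.rank).map fun i => c i ^ (D.cartan i s)).prod := by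
    intro s
    have h2 : ((glMap D σ x : GL D.Idx F) : Matrix D.Idx D.Idx F) = (x : Matrix D.Idx D.Idx F) := by
      rw [hσ]
    rw [glMap_coe, hxc, hd] at h2
    have h3 := congrFun (congrFun h2 (Sum.inr s)) (Sum.inr s)
    rw [Matrix.map_apply, Matrix.diagonal_apply_eq] at h3
    exact h3
  have hcfix : ∀ j < D.rank, σ (c j) = c j := by
    intro j hj
    have h4 := recover c hc hC hj
    conv_lhs => rw [← h4]
    conv_rhs => rw [← h4]
    rw [map_list_prod, List.map_map]
    congr 1
    apply List.map_congr_left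
    intro k hk
    rw [List.mem_range] at hk
    simp only [Function.comp_apply]
    rw [map_zpow₀, hfix ⟨D.simple k, hs k hk⟩]
  have h5 : ∀ j, ∃ s : K, j < D.rank → ι s = c j := by
    intro j
    by_cases hj : j < D.rank
    · obtain ⟨s, hs⟩ := hι _ (hcfix j hj)
      exact ⟨s, fun _ => hs⟩
    · exact ⟨0, fun h => absurd h hj⟩
  choose s hs' using h5
  refine ⟨wordG hD ((List.range D.rank).flatMap fun i => D.hWord (D.simple i) (s i)),
    wordG_mem_group hD _, ?_⟩
  symm
  rw [glMap_wordG, eq_wordG_iff, hxc]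
  congr 1
  rw [List.map_flatMap]
  apply List.flatMap_congr
  intro i hi
  rw [List.mem_range] at hi
  simp [ChevalleyDatum.hWord, ChevalleyDatum.nWord, hs' i hi]

/-- the fixed points of `σ` in the Chevalley group over `F` come from the Chevalley group over the
fixed field, when the Cartan matrix is unimodular. -/
theorem group_mem_range (hD : InList D) (hU : Unimod D) (hs : ∀ k < D.rank, D.simple k < D.nroots)
    (σ : F →+* F) (ι : K →+* F)
    (hι : ∀ t : F, σ t = t → ∃ s : K, ι s = t) {g : GL D.Idx F} (hg : g ∈ D.group F)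
    (hσ : glMap D σ g = g) : ∃ g' ∈ D.group K, glMap D ι g' = g := by
  obtain ⟨u₁, hu₁, h, hh, n, hn, u₂, hu₂, rfl, e1, e2, e3, e4⟩ := fixed_decomp hD σ hg hσ
  obtain ⟨a, ha, ha'⟩ := pos_mem_range hD σ ι hι hu₁ e1
  obtain ⟨b, hb, hb'⟩ := diag_mem_range hD hU hs σ ι hι hh e2
  obtain ⟨c, hc, hc'⟩ := weyl_mem_range hD ι hn
  obtain ⟨d, hd, hd'⟩ := pos_mem_range hD σ ι hι hu₂ e4
  refine ⟨a * b * c * d, Subgroup.mul_mem _ (Subgroup.mul_mem _ (Subgroup.mul_mem _ ha hb) hc) hd, ?_⟩
  rw [map_mul, map_mul, map_mul, ha', hb', hc', hd']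

end Cfsg.Agent.H192.FieldFix
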