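import Cfsg.Agent.H192.FieldFix
import Cfsg.Agent.H192.FixedField
set_option linter.all false

/-!
# Fixed points of field automorphisms of the Chevalley groups of types G₂, F₄, E₈
-/

set_option autoImplicit false

namespace Cfsg.Agent.H192.FieldFix

open Cfsg.Lie Cfsg.Agent.ChevalleyStructure Cfsg.Agent.ChevalleyStructure.Elts
  Cfsg.Agent.ChevStructure.FieldMap

universe u v

variable {F : Type u} [Field F] {D : ChevalleyDatum}

/-- a group automorphism sending `x_r(t)` to `x_r(σ t)` is the entrywise one. -/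
theorem aut_eq_glMap (hD : InList D) (φ : ↥(D.group F) ≃* ↥(D.group F)) (σ : F ≃+* F)
    (hφ : ∀ (g : ↥(D.group F)) (r : ℕ) (t : F), r < D.nroots →
      ((g : GL D.Idx F) : Matrix D.Idx D.Idx F) = D.x F r t →
        ((φ g : GL D.Idx F) : Matrix D.Idx D.Idx F) = D.x F r (σ t)) (g : ↥(D.group F)) :
    ((φ g : ↥(D.group F)) : GL D.Idx F) = glMap D (σ : F →+* F) (g : GL D.Idx F) := by
  obtain ⟨g, hg⟩ := g
  have key : ∀ x (hx : x ∈ D.group F), ((φ ⟨x, hx⟩ : ↥(D.group F)) : GL D.Idx F) =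
      glMap D (σ : F →+* F) x := by
    intro x hx
    induction hx using Subgroup.closure_induction with
    | mem x hx =>
      obtain ⟨r, t, hx⟩ := hx
      have h1 : (x : Matrix D.Idx D.Idx F) = D.x F r t := hx.trans (x_of_lt r.2 t).symm
      have hxg : x ∈ D.group F := Subgroup.subset_closure ⟨r, t, hx⟩
      apply Units.ext
      rw [hφ ⟨x, hxg⟩ r t r.2 h1, (eq_xG_iff hD x r t).2 h1, glMap_xG, coe_xG]
      rfl
    | one =>
      have : (⟨1, Subgroup.one_mem _⟩ : ↥(D.group F)) = 1 := rfl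
      rw [this, map_one, map_one]
      rfl
    | mul x y hx hy ihx ihy =>
      have : (⟨x * y, Subgroup.mul_mem _ hx hy⟩ : ↥(D.group F)) = ⟨x, hx⟩ * ⟨y, hy⟩ := rfl
      rw [this, map_mul, Subgroup.coe_mul, ihx, ihy, map_mul]
    | inv x hx ihx =>
      have : (⟨x⁻¹, Subgroup.inv_mem _ hx⟩ : ↥(D.group F)) = (⟨x, hx⟩)⁻¹ := rfl
      rw [this, map_inv, Subgroup.coe_inv, ihx, map_inv]
  exact key g hg

theorem aut_pow (hD : InList D) (φ : MulAut ↥(D.group F)) (σ : RingAut F)
    (h : ∀ g : ↥(D.group F), ((φ g : ↥(D.group F)) : GL D.Idx F) =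
      glMap D (RingEquiv.toRingHom σ) (g : GL D.Idx F)) (k : ℕ) :
    ∀ g : ↥(D.group F), (((φ ^ k) g : ↥(D.group F)) : GL D.Idx F) =
      glMap D (RingEquiv.toRingHom (σ ^ k)) (g : GL D.Idx F) := by
  induction k with
  | zero =>
    intro g
    apply Units.ext
    ext i j
    rfl
  | succ k ih =>
    intro g
    rw [pow_succ, MulAut.mul_apply, ih, h, pow_succ]
    apply Units.ext
    ext i j
    rfl

theorem orderOf_aut (hD : InList D) (h0 : 0 < D.nroots) (φ : MulAut ↥(D.group F)) (σ : RingAut F)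
    (h : ∀ g : ↥(D.group F), ((φ g : ↥(D.group F)) : GL D.Idx F) =
      glMap D (RingEquiv.toRingHom σ) (g : GL D.Idx F)) : orderOf φ = orderOf σ := by
  rw [orderOf_eq_orderOf_iff]
  intro k
  constructor
  · intro hk
    apply RingEquiv.ext
    intro t
    have h1 := aut_pow hD φ σ h k ⟨xG hD 0 t, xG_mem_group hD 0 t⟩
    rw [hk, glMap_xG] at h1
    exact (xG_injective hD h0 h1).symm
  · intro hk
    apply MulEquiv.ext
    intro g
    apply Subtype.ext
    rw [aut_pow hD φ σ h k g, hk]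
    apply Units.ext
    ext i j
    rfl

/-- Fixed points of a field automorphism of order `r`, for unimodular Cartan matrices. -/
theorem main [Fintype F] (hD : InList D) (hU : Unimod D)
    (hs : ∀ k < D.rank, D.simple k < D.nroots) (h0 : 0 < D.nroots)
    (φ : MulAut ↥(D.group F)) (hφ : D.IsFieldAut φ) (r : ℕ) (ho : orderOf φ = r) :
    ∃ (F₀ : Type) (_ : Field F₀) (_ : Fintype F₀), Fintype.card F = Fintype.card F₀ ^ r ∧
      Nonempty (↥((MulEquiv.toMonoidHom φ).eqLocus (MonoidHom.id ↥(D.group F))) ≃*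
        ↥(D.group F₀)) := by
  obtain ⟨σ, hσ⟩ := hφ
  have h1 := aut_eq_glMap hD φ σ hσ
  have h2 := orderOf_aut hD h0 φ σ h1
  obtain ⟨F₀, i1, i2, hcard, ι, hι1, hι2⟩ := Cfsg.Agent.H192.exists_fixed_field σ
  letI := i1
  letI := i2
  refine ⟨F₀, i1, i2, by rw [hcard, ← h2, ho], ?_⟩
  have hmem : ∀ g : ↥(D.group F), g ∈ (MulEquiv.toMonoidHom φ).eqLocus (MonoidHom.id ↥(D.group F)) ↔
      glMap D (σ : F →+* F) (g : GL D.Idx F) = g := by
    intro g
    rw [← h1]
    constructor
    · intro h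
      exact congrArg Subtype.val (show φ g = g from h)
    · intro h
      exact (Subtype.ext h : φ g = g)
  have hfix : ∀ g : GL D.Idx F₀, glMap D (σ : F →+* F) (glMap D ι g) = glMap D ι g := by
    intro g
    apply Units.ext
    ext i j
    exact hι1 _
  let ψ : ↥(D.group F₀) →* ↥((MulEquiv.toMonoidHom φ).eqLocus (MonoidHom.id ↥(D.group F))) :=
    { toFun := fun g => ⟨⟨glMap D ι g, glMap_group hD ι g.2⟩, (hmem _).2 (hfix _)⟩
      map_one' := by
        apply Subtype.ext
        apply Subtype.ext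
        exact map_one (glMap D ι)
      map_mul' := by
        intro a b
        apply Subtype.ext
        apply Subtype.ext
        exact map_mul (glMap D ι) _ _ }
  have hinj : Function.Injective ψ := by
    intro a b hab
    apply Subtype.ext
    apply glMap_injective D ι
    exact congrArg (fun z => ((z : ↥(D.group F)) : GL D.Idx F)) (congrArg Subtype.val hab)
  have hsurj : Function.Surjective ψ := by
    rintro ⟨⟨g, hg⟩, hgf⟩
    obtain ⟨g', hg', hgg'⟩ := group_mem_range hD hU hs (σ : F →+* F) ι hι2 hg ((hmem _).1 hgf)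
    refine ⟨⟨g', hg'⟩, ?_⟩
    apply Subtype.ext
    apply Subtype.ext
    exact hgg'
  exact ⟨(MulEquiv.ofBijective ψ ⟨hinj, hsurj⟩).symm⟩

end Cfsg.Agent.H192.FieldFix
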